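import Cfsg.Agent.H816.S8.MSolv
import Cfsg.Agent.OrdDiv.Table
import Cfsg.Agent.S0000

/-!
# S4908, the Monster: SOLV, without hypotheses (helper816)
-/

set_option autoImplicit false

namespace Cfsg.Agent.H816.S8.M

open Cfsg Cfsg.Agent.H704.S8

universe u v

/-- **SOLV for the Monster** -/
theorem solv_m {X : Type v} [Group X] (h : Spor.IsoM X) (D : Set ℕ) (hD : Deg 1 X D) : Solv.{u} D :=
  solv ⟨Cfsg.Agent.OrdDiv.table, fun _ _ _ _ => Cfsg.Agent.S0000.result⟩ h D hD

end Cfsg.Agent.H816.S8.M
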