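import Cfsg.Agent.H185.S8.Solv
import Cfsg.Agent.H606.OreM.Small
import Cfsg.Agent.H455.OreM.Loc
import Cfsg.Agent.H816.IMM
import Cfsg.Agent.H424.DegTools

/-!
# S4908, the Monster: SOLV (helper816)

The engine `NumMin` (helper704, helper185) at `m = 196883 = 47 * 59 * 71`, with the witness
`842609326 = 2 * 13 ^ 2 * 29 * 31 * 47 * 59`; the degrees below `10 ^ 8` are `1`, `196883`, `21296876` (helper606), and
`59825262146 = 71 * 842609326` is no degree because it is `11` modulo `41`.
-/

set_option autoImplicit false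
set_option maxRecDepth 100000

namespace Cfsg.Agent.H816.S8.M

open Cfsg Cfsg.Agent.H704.S8

universe u v

theorem prime_mem {s : ℕ} (hs : s.Prime) (h : s ∣ 196883) : s = 47 ∨ s = 59 ∨ s = 71 := by
  rw [show (196883 : ℕ) = 47 * (59 * 71) by norm_num, hs.dvd_mul, hs.dvd_mul] at h
  rcases h with h | h | h
  · exact Or.inl ((Nat.prime_dvd_prime_iff_eq hs (by norm_num)).1 h)
  · exact Or.inr (Or.inl ((Nat.prime_dvd_prime_iff_eq hs (by norm_num)).1 h))
  · exact Or.inr (Or.inr ((Nat.prime_dvd_prime_iff_eq hs (by norm_num)).1 h))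

theorem numMin {D : Set ℕ} (h1 : 196883 ∈ D) (h2 : 842609326 ∈ D)
    (hs : ∀ d ∈ D, d = 1 ∨ d = 196883 ∨ d = 21296876 ∨ 100000000 ≤ d)
    (h47 : ∀ d ∈ D, ¬ 2209 ∣ d) (h59 : ∀ d ∈ D, ¬ 3481 ∣ d) (hx : 59825262146 ∉ D) : NumMin D := by
  refine ⟨196883, h1, by norm_num, fun d hd => ?_, ⟨fun p k hp h => ?_, fun q a hq ha hmod => ?_⟩,
    SC1.of_coprime (by norm_num) ?_⟩
  · have := hs d hd
    omega
  · exfalso
    have h3 : 47 ∣ p ^ k := by rw [← h]; norm_num
    have h31 : 59 ∣ p ^ k := by rw [← h]; norm_num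
    have e3 := (Nat.prime_dvd_prime_iff_eq (by norm_num) hp).1 (Nat.Prime.dvd_of_dvd_pow (by norm_num) h3)
    have e31 := (Nat.prime_dvd_prime_iff_eq (by norm_num) hp).1 (Nat.Prime.dvd_of_dvd_pow (by norm_num) h31)
    omega
  · refine ⟨842609326, h2, fun e he hdiv => ⟨?_, fun hqe => ?_⟩⟩
    · obtain ⟨t, ht⟩ := he
      have he0 : 0 < e := by
        rcases Nat.eq_zero_or_pos e with h0 | h0
        · rw [h0, zero_mul] at ht; omega
        · exact h0
      rw [ht, Nat.mul_div_cancel_left _ he0] at hdiv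
      have h3 : t ∣ 2773 := by
        have h4 : t ∣ Nat.gcd 196883 842609326 := Nat.dvd_gcd hdiv (by rw [ht]; exact dvd_mul_left t e)
        exact h4
      have h4 : t ∈ Nat.divisors 2773 := Nat.mem_divisors.2 ⟨h3, by norm_num⟩
      have h5 : t = 1 ∨ t = 47 ∨ t = 59 ∨ t = 2773 := by
        have e : Nat.divisors 2773 = {1, 47, 59, 2773} := by decide +kernel
        rw [e] at h4
        simpa using h4
      intro hmem
      rcases h5 with rfl | rfl | rfl | rfl
      · obtain rfl : e = 842609326 := by omega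
        exact h47 _ hmem (by norm_num)
      · obtain rfl : e = 17927858 := by omega
        exact h59 _ hmem (by norm_num)
      · obtain rfl : e = 14281514 := by omega
        exact h47 _ hmem (by norm_num)
      · obtain rfl : e = 303862 := by omega
        exact hx hmem
    · have h3 : q ^ a ∣ 842609326 ^ 2 := hqe.trans (pow_dvd_pow_of_dvd he 2)
      have h4 : q ∣ 2 * (13 * (29 * (31 * (47 * 59)))) := by
        have h5 : q ∣ 842609326 := hq.dvd_of_dvd_pow ((dvd_pow_self q (by omega)).trans h3)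
        have h6 : q ∣ (2 * (13 * (29 * (31 * (47 * 59))))) ^ 2 := h5.trans (by norm_num)
        exact hq.dvd_of_dvd_pow h6
      have h5 : q = 2 ∨ q = 13 ∨ q = 29 ∨ q = 31 ∨ q = 47 ∨ q = 59 := by
        rcases hq.dvd_mul.1 h4 with h | h
        · exact Or.inl ((Nat.prime_dvd_prime_iff_eq hq (by norm_num)).1 h)
        rcases hq.dvd_mul.1 h with h | h
        · exact Or.inr (Or.inl ((Nat.prime_dvd_prime_iff_eq hq (by norm_num)).1 h))
        rcases hq.dvd_mul.1 h with h | h
        · exact Or.inr (Or.inr (Or.inl ((Nat.prime_dvd_prime_iff_eq hq (by norm_num)).1 h)))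
        rcases hq.dvd_mul.1 h with h | h
        · exact Or.inr (Or.inr (Or.inr (Or.inl ((Nat.prime_dvd_prime_iff_eq hq (by norm_num)).1 h))))
        rcases hq.dvd_mul.1 h with h | h
        · exact Or.inr (Or.inr (Or.inr (Or.inr (Or.inl ((Nat.prime_dvd_prime_iff_eq hq (by norm_num)).1 h)))))
        · exact Or.inr (Or.inr (Or.inr (Or.inr (Or.inr ((Nat.prime_dvd_prime_iff_eq hq (by norm_num)).1 h)))))
      have ha6 : a ≤ 4 := by
        by_contra hlt
        have h6 : q ^ 5 ∣ 842609326 ^ 2 := (pow_dvd_pow q (by omega)).trans h3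
        rcases h5 with rfl | rfl | rfl | rfl | rfl | rfl <;> revert h6 <;> decide +kernel
      have key : ∀ q ∈ [2, 13, 29, 31, 47, 59], ∀ a ∈ [1, 2, 3, 4], q ^ a ∣ 842609326 ^ 2 → q ^ a % 196883 ≠ 1 := by
        decide +kernel
      refine key q (by simpa using h5) a ?_ h3 ?_
      · simp only [List.mem_cons, List.not_mem_nil, or_false]
        omega
      · have h7 : q ^ a % 196883 = 1 % 196883 := hmod
        rw [h7]
  · intro s c o t hsp hc hsc ho1 ho2 hso hog ht hmem
    have hss := prime_mem hsp ((dvd_pow_self s (by omega)).trans hsc)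
    obtain rfl : c = 1 := by
      by_contra hc1
      have h6 : s ^ 2 ∣ 196883 := (pow_dvd_pow s (by omega)).trans hsc
      rcases hss with rfl | rfl | rfl <;> revert h6 <;> decide
    rw [pow_one] at ht
    rw [mul_one] at ho2
    have hsm : ¬ s ∣ o * t := by
      intro h
      rcases hsp.dvd_mul.1 h with h | h
      · exact hso h
      · have h6 := h.trans ht
        rcases hss with rfl | rfl | rfl <;> revert h6 <;> decide
    have hle : o * t < 100000000 := by
      have h6 : t ≤ 196883 / s := Nat.le_of_dvd (by rcases hss with rfl | rfl | rfl <;> norm_num) ht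
      have h7 : o * t ≤ s ^ 2 * (196883 / s) := Nat.mul_le_mul ho2.le h6
      refine h7.trans_lt ?_
      rcases hss with rfl | rfl | rfl <;> norm_num
    have hle' : o * t ≠ 21296876 := by
      have h6 : t ≤ 196883 / s := Nat.le_of_dvd (by rcases hss with rfl | rfl | rfl <;> norm_num) ht
      have h7 : o * t ≤ s ^ 2 * (196883 / s) := Nat.mul_le_mul ho2.le h6
      refine (h7.trans_lt ?_).ne
      rcases hss with rfl | rfl | rfl <;> norm_num
    rcases hs _ hmem with h | h | h | h
    · have := Nat.eq_one_of_mul_eq_one_right h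
      omega
    · refine hsm ?_
      rw [h]
      rcases hss with rfl | rfl | rfl <;> norm_num
    · exact hle' h
    · omega

open Cfsg.Agent.BpSpor.MBigModel (MG card_M)
open Cfsg.Agent.H940.Eng (Base)

theorem numMin_model (B : Base) : NumMin (charDegrees MG) := by
  have hfin : Finite MG := BpSpor.MBigModel.finite
  have L := Cfsg.Agent.H455.OreM.Deg19.loc B
  have hiso : Spor.IsoM MG := by
    obtain ⟨f⟩ := Cfsg.Agent.MonsterP.Equiv.equiv
    exact ⟨f.symm⟩
  have hdvd : ∀ d ∈ charDegrees MG, d ∣ 808017424794512875886459904961710757005754368000000000 := by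
    rintro d ⟨χ, hχ⟩
    rw [← hχ, ← card_M]
    exact Blocks.Knorr.charDegree_dvd χ.2
  refine numMin ?_ ?_ ?_ ?_ ?_ ?_
  · obtain ⟨χ, hχ, h1⟩ := H816.IMM.exists_chi_196883 hiso
    exact H424.DegTools.mem_charDegrees.2 ⟨χ, hχ, by rw [h1]; norm_num⟩
  · obtain ⟨χ, hχ, h1⟩ := H816.IMM.exists_chi_842609326 hiso
    exact H424.DegTools.mem_charDegrees.2 ⟨χ, hχ, by rw [h1]; norm_num⟩
  · rintro d ⟨χ, rfl⟩
    by_cases h : (χ : MG → ℂ) = 1
    · left
      have h2 := Blocks.Knorr.charDegree_eq χ.2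
      rw [h, Pi.one_apply, ← h] at h2
      exact_mod_cast h2.symm
    · exact Or.inr (Cfsg.Agent.H606.OreM.deg_small L χ h)
  · intro d hd h
    have h1 := h.trans (hdvd d hd)
    revert h1
    norm_num
  · intro d hd h
    have h1 := h.trans (hdvd d hd)
    revert h1
    norm_num
  · rintro ⟨χ, hχ⟩
    have h := Cfsg.Agent.H606.OreM.mem41 L χ
    rw [hχ] at h
    revert h
    decide +kernel

theorem numMin_of (B : Base) {X : Type v} [Group X] (h : Spor.IsoM X) : NumMin (charDegrees X) := by
  obtain ⟨e⟩ := h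
  obtain ⟨f⟩ := Cfsg.Agent.MonsterP.Equiv.equiv
  rw [H424.DegTools.charDegrees_congr (e.trans f)]
  exact numMin_model B

/-- **SOLV for the Monster** -/
theorem solv (B : Base) {X : Type v} [Group X] (h : Spor.IsoM X) (D : Set ℕ) (hD : Deg 1 X D) : Solv.{u} D := by
  rcases hD with rfl | ⟨h1, -⟩
  · exact H185.S8.solv_of_numMin (numMin_of B h)
  · omega

end Cfsg.Agent.H816.S8.M
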